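import Groth.Agent.RSFin.Germ
import Groth.Agent.CohQC.Flasque
import Mathlib.Algebra.Module.Injective

/-!
# Stalks of injective modules on a ringed space

If relations between finitely many functions on `U` are finitely generated (and `O(U)` is noetherian), the stalks
at the points of `U` of an injective sheaf of modules are injective `O(U)`-modules.
-/

set_option autoImplicit false
set_option linter.style.haveILetI false
set_option backward.isDefEq.respectTransparency false
set_option backward.isDefEq.respectTransparency.types false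

universe u

open CategoryTheory Limits TopologicalSpace Opposite
open Groth.Agent.RSFin

noncomputable section

namespace Groth.Agent.RSInj

variable {X : TopCat.{u}} {O : TopCat.Sheaf CommRingCat.{u} X}

/-- relations between the functions `a` on `U` are locally combinations of the vectors `e` -/
def IsRelGen {U : Opens X} {k : ℕ} (a : Fin k → sc O U) {κ : Type} [Fintype κ] (e : κ → Fin k → sc O U) : Prop :=
  (∀ l, ∑ j, e l j * a j = 0) ∧
    ∀ ⦃V : Opens X⦄ (h : V ≤ U) (c : Fin k → sc O V), (∑ j, c j * rsR h (a j)) = 0 → ∀ y ∈ V,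
      ∃ (W : Opens X) (hW : W ≤ V), y ∈ W ∧ ∃ f : κ → sc O W, ∀ j, ∑ l, f l * rsR (hW.trans h) (e l j) = rsR hW (c j)

/-- relations between finitely many functions on `U` are finitely generated -/
def HasRelGen (O : TopCat.Sheaf CommRingCat.{u} X) (U : Opens X) : Prop :=
  ∀ (k : ℕ) (a : Fin k → sc O U), ∃ (κ : Type) (_ : Fintype κ) (e : κ → Fin k → sc O U), IsRelGen a e

theorem sum_smul_eq_zero (I : ModSite.Mod O) {U W V : Opens X} (hW : W ≤ U) (hV : V ≤ W) {k : ℕ}
    {a : Fin k → sc O U} {κ : Type} [Fintype κ] {e : κ → Fin k → sc O U} (he : IsRelGen a e)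
    {t : Fin k → ModSite.sect I W} (ht : ∀ l, ∑ j, rsR hW (e l j) • t j = 0) {c : Fin k → sc O V}
    (hc : ∑ j, c j * rsR (hV.trans hW) (a j) = 0) : ∑ j, c j • rs I hV (t j) = 0 := by
  refine eq_zero_of_locally I _ fun y hy => ?_
  obtain ⟨W', hW', hy', f, hf⟩ := he.2 (hV.trans hW) c hc y hy
  refine ⟨W', hW', hy', ?_⟩
  rw [rs_sum_smul]
  simp only [rs_rs, ← hf, Finset.sum_smul, mul_smul]
  rw [Finset.sum_comm]
  refine Finset.sum_eq_zero fun l _ => ?_
  rw [← Finset.smul_sum]
  have h0 := congrArg (rs I (hW'.trans hV)) (ht l)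
  rw [rs_sum_smul, map_zero] at h0
  simp only [rsR_rsR] at h0
  rw [h0, smul_zero]

/-- `k` copies of the representable presheaf of sets -/
def copies (k : ℕ) (W : Opens X) : (Opens X)ᵒᵖ ⥤ Type u where
  obj V := Fin k × (V.unop ⟶ W)
  map f := TypeCat.ofHom fun p => (p.1, f.unop ≫ p.2)

variable (I : ModSite.Mod O) {U W : Opens X} (hW : W ≤ U) {k : ℕ} (a : Fin k → sc O U)
  (t : Fin k → ModSite.sect I W)

/-- `(j, g) ↦ a_j g` -/
def pMap : (PresheafOfModules.free (ModSite.ringSh O).obj).obj (copies k W) ⟶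
    (PresheafOfModules.free (ModSite.ringSh O).obj).obj (yoneda.obj W) :=
  PresheafOfModules.freeObjDesc
    { app := fun V => TypeCat.ofHom fun p => Finsupp.single p.2 (rsR (p.2.le.trans hW) (a p.1) : sc O V.unop)
      naturality := fun V V' f => by
        ext ⟨j, g⟩
        show Finsupp.single (f.unop ≫ g) (rsR ((f.unop ≫ g).le.trans hW) (a j) : sc O V'.unop) =
          ((PresheafOfModules.free (ModSite.ringSh O).obj).obj (yoneda.obj W)).map f
            (Finsupp.single g (rsR (g.le.trans hW) (a j) : sc O V.unop))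
        rw [← Finsupp.smul_single_one g (rsR (g.le.trans hW) (a j))]
        erw [PresheafOfModules.map_smul, ModuleCat.freeDesc_apply]
        rw [← rsR_rsR f.unop.le (g.le.trans hW)]
        exact (Finsupp.smul_single_one _ _).symm }

/-- `(j, g) ↦ t_j` -/
def qMap : (PresheafOfModules.free (ModSite.ringSh O).obj).obj (copies k W) ⟶
    (SheafOfModules.forget (ModSite.ringSh O) ⋙
      PresheafOfModules.restrictScalars (𝟙 (ModSite.ringSh O).obj)).obj I :=
  PresheafOfModules.freeObjDesc
    { app := fun V => TypeCat.ofHom fun p => rs I p.2.le (t p.1)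
      naturality := fun V V' f => by
        ext ⟨j, g⟩
        exact (rs_rs I f.unop.le g.le (t j)).symm }

/-- `pMap` on sections -/
def pApp (V : Opens X) : ((Fin k × (V ⟶ W)) →₀ sc O V) →+ ((V ⟶ W) →₀ sc O V) where
  toFun w := (pMap hW a).app (op V) w
  map_zero' := map_zero _
  map_add' := map_add ((pMap hW a).app (op V)).hom

/-- `qMap` on sections -/
def qApp (V : Opens X) : ((Fin k × (V ⟶ W)) →₀ sc O V) →+ ModSite.sect I V where
  toFun w := (qMap I t).app (op V) w
  map_zero' := map_zero _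
  map_add' := map_add ((qMap I t).app (op V)).hom

theorem pMap_single {V : Opens X} (j : Fin k) (g : V ⟶ W) (c : sc O V) :
    pApp hW a V (Finsupp.single (j, g) c) = Finsupp.single g (c * rsR (g.le.trans hW) (a j)) := by
  show (ModuleCat.freeDesc _) (Finsupp.single (j, g) c) = _
  rw [← Finsupp.smul_single_one (j, g) c]
  erw [map_smul, ModuleCat.freeDesc_apply]
  exact Finsupp.smul_single' c g (rsR (g.le.trans hW) (a j))

theorem qMap_single {V : Opens X} (j : Fin k) (g : V ⟶ W) (c : sc O V) :
    qApp I t V (Finsupp.single (j, g) c) = c • rs I g.le (t j) := by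
  show (ModuleCat.freeDesc _) (Finsupp.single (j, g) c) = _
  rw [← Finsupp.smul_single_one (j, g) c]
  erw [map_smul, ModuleCat.freeDesc_apply]
  rfl

theorem qMap_eq_zero {κ : Type} [Fintype κ] {e : κ → Fin k → sc O U} (he : IsRelGen a e)
    (ht : ∀ l, ∑ j, rsR hW (e l j) • t j = 0) {V : Opens X} (w : (Fin k × (V ⟶ W)) →₀ sc O V)
    (hp : pApp hW a V w = 0) : qApp I t V w = 0 := by
  classical
  by_cases hV : V ≤ W
  · let g : V ⟶ W := homOfLE hV
    have hw : w = ∑ j, Finsupp.single (j, g) (w (j, g)) := by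
      refine Finsupp.ext fun ⟨i, g'⟩ => ?_
      rw [Finsupp.finsetSum_apply, Subsingleton.elim g' g, Finset.sum_eq_single i (fun j _ hj => ?_) (by simp)]
      · exact Finsupp.single_eq_same.symm
      · exact Finsupp.single_eq_of_ne fun e => hj (congrArg Prod.fst e).symm
    rw [hw] at hp ⊢
    simp only [map_sum] at hp ⊢
    simp only [qMap_single, pMap_single] at hp ⊢
    refine sum_smul_eq_zero I hW hV he ht ?_
    have h1 := congrArg (fun s : (V ⟶ W) →₀ sc O V => s g) hp
    simpa [Finsupp.finsetSum_apply] using h1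
  · have : w = 0 := Finsupp.ext fun p => absurd p.2.le hV
    rw [this]
    exact map_zero _

theorem kernel_ι_qMap {κ : Type} [Fintype κ] {e : κ → Fin k → sc O U} (he : IsRelGen a e)
    (ht : ∀ l, ∑ j, rsR hW (e l j) • t j = 0) : kernel.ι (pMap hW a) ≫ qMap I t = 0 := by
  refine PresheafOfModules.hom_ext fun V => ?_
  ext z
  exact qMap_eq_zero I hW a t he ht (V := V.unop) ((kernel.ι (pMap hW a)).app V z) congr(($(kernel.condition (pMap hW a))).app V z)

/-- Maps out of an object extend to an injective object when they vanish on the kernel. -/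
theorem exists_comp_eq {𝒜 : Type*} [Category 𝒜] [Abelian 𝒜] {P Q J : 𝒜} [Injective J] (p : P ⟶ Q) (q : P ⟶ J)
    (h : kernel.ι p ≫ q = 0) : ∃ φ : Q ⟶ J, p ≫ φ = q := by
  have h0 : kernel.ι (Abelian.factorThruImage p) ≫ p = 0 :=
    (congrArg (kernel.ι _ ≫ ·) (Abelian.image.fac p)).symm.trans (by rw [kernel.condition_assoc, zero_comp])
  have h1 : kernel.ι (Abelian.factorThruImage p) ≫ q = 0 := by
    rw [← kernel.lift_ι p _ h0, Category.assoc, h, comp_zero]
  refine ⟨Injective.factorThru (Abelian.epiDesc _ q h1) (Abelian.image.ι p), ?_⟩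
  conv_lhs => arg 1; rw [← Abelian.image.fac p]
  rw [Category.assoc, Injective.comp_factorThru, Abelian.comp_epiDesc]

/-- Sections solving a compatible finite system of equations in an injective sheaf -/
theorem exists_smul_eq [Injective I] {κ : Type} [Fintype κ] {e : κ → Fin k → sc O U} (he : IsRelGen a e)
    (ht : ∀ l, ∑ j, rsR hW (e l j) • t j = 0) :
    ∃ s : ModSite.sect I W, ∀ j, rsR hW (a j) • s = t j := by
  haveI := CohQC.injective_val (R := ModSite.ringSh O) I
  obtain ⟨φ, hφ⟩ := exists_comp_eq _ _ (kernel_ι_qMap I hW a t he ht)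
  refine ⟨φ.app (op W) (Finsupp.single (𝟙 W) 1), fun j => ?_⟩
  have h1 : φ.app (op W) (pApp hW a W (Finsupp.single (j, 𝟙 W) 1)) = qApp I t W (Finsupp.single (j, 𝟙 W) 1) :=
    congr(($hφ).app (op W) (Finsupp.single (j, 𝟙 W) 1))
  rw [qMap_single, pMap_single, one_smul, rs_self, one_mul] at h1
  refine Eq.trans ?_ h1
  refine Eq.trans ?_ (congrArg (φ.app (op W)) ((Finsupp.smul_single (rsR hW (a j)) (𝟙 W) (1 : sc O W)).trans
    (congrArg (Finsupp.single (𝟙 W)) (mul_one _))))
  exact ((φ.app (op W)).hom.map_smul (rsR hW (a j)) (Finsupp.single (𝟙 W) (1 : sc O W))).symm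

section Baer

variable {x : X} (hx : x ∈ U)

/-- the stalk as a module over the functions on `U` -/
abbrev stAlg (F : ModSite.Mod O) : Module (sc O U) (stM F x) := Module.compHom _ (gmR O hx)

/-- Stalks of injective sheaves of modules are injective over the functions on a good open. -/
theorem injective_stalk [Injective I] [IsNoetherianRing (sc O U)] (hU : HasRelGen O U) :
    letI := stAlg hx I; Module.Injective (sc O U) (stM I x) := by
  letI := stAlg hx I
  refine Module.Baer.injective fun 𝔞 φ => ?_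
  obtain ⟨k, a, ha⟩ := Submodule.fg_iff_exists_fin_generating_family.1 (IsNoetherian.noetherian 𝔞)
  have hmem : ∀ j, a j ∈ 𝔞 := fun j => ha ▸ Submodule.subset_span ⟨j, rfl⟩
  obtain ⟨W₀, hW₀, hxW₀, t, ht⟩ := exists_gms I hx fun j => φ ⟨a j, hmem j⟩
  obtain ⟨κ, _, e, he⟩ := hU k a
  have h0 : ∀ l, gm I hxW₀ (∑ j, rsR hW₀ (e l j) • t j) = gm I hxW₀ 0 := fun l => by
    rw [gm_sum_smul, map_zero]
    simp only [gmR_rs, ht]
    show ∑ j, e l j • φ ⟨a j, hmem j⟩ = 0
    simp only [← map_smul, ← map_sum]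
    rw [← map_zero φ]
    congr 1
    exact Subtype.ext (by simpa using he.1 l)
  obtain ⟨W, hW, hxW, hz⟩ := exists_rs_eq I hxW₀ (a := fun l => ∑ j, rsR hW₀ (e l j) • t j) (b := fun _ => 0) h0
  obtain ⟨s, hs⟩ := exists_smul_eq I (hW.trans hW₀) a (fun j => rs I hW (t j)) he fun l => by
    have := hz l
    rw [rs_sum_smul, map_zero] at this
    simpa only [rsR_rsR] using this
  refine ⟨LinearMap.toSpanSingleton (sc O U) _ (gm I hxW s), fun c hc => ?_⟩
  obtain ⟨f, hf⟩ := (Submodule.mem_span_range_iff_exists_fun _).1 (ha.ge hc)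
  have hc' : (⟨c, hc⟩ : 𝔞) = ∑ j, f j • ⟨a j, hmem j⟩ := Subtype.ext (by simpa using hf.symm)
  rw [hc', map_sum, LinearMap.toSpanSingleton_apply, ← hf, Finset.sum_smul]
  refine Finset.sum_congr rfl fun j _ => ?_
  rw [map_smul, smul_assoc]
  congr 1
  show gmR O hx (a j) • gm I hxW s = _
  rw [← gmR_rs (hW.trans hW₀) hxW, ← gm_smul, hs j, gm_rs, ht]

end Baer

end Groth.Agent.RSInj
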